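import Groth.Agent.H78.ZMTIdem.WQF

/-!
# Idempotent decomposition of the integral closure modulo an ideal (via Zariski's main theorem)
-/

namespace Groth.Agent.H78.ZMTIdem

universe u

section Descent

variable {A B : Type u} [CommRing A] [CommRing B] [Algebra A B]

/-- If `j` is good, every element of `IB ∩ B'` is pushed into `IB'` by a power of `j`. -/
lemma exists_pow_mul_mem (I : Ideal A) (j : integralClosure A B) (hj : Good A (j : B))
    (x : integralClosure A B) (hx : (x : B) ∈ I.map (algebraMap A B)) :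
    ∃ m : ℕ, j ^ m * x ∈ I.map (algebraMap A (integralClosure A B)) := by
  have key : ∀ b ∈ I.map (algebraMap A B), ∃ m : ℕ,
      ∃ y ∈ I.map (algebraMap A (integralClosure A B)), (y : B) = (j : B) ^ m * b := by
    intro b hb
    unfold Ideal.map at hb
    induction hb using Submodule.span_induction with
    | mem b hb =>
      obtain ⟨a, ha, rfl⟩ := hb
      exact ⟨0, algebraMap A (integralClosure A B) a, Ideal.mem_map_of_mem _ ha, by simp⟩
    | zero => exact ⟨0, 0, Ideal.zero_mem _, by simp⟩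
    | add b₁ b₂ _ _ h₁ h₂ =>
      obtain ⟨m₁, y₁, hy₁, e₁⟩ := h₁
      obtain ⟨m₂, y₂, hy₂, e₂⟩ := h₂
      refine ⟨m₁ + m₂, j ^ m₂ * y₁ + j ^ m₁ * y₂,
        Ideal.add_mem _ (Ideal.mul_mem_left _ _ hy₁) (Ideal.mul_mem_left _ _ hy₂), ?_⟩
      push_cast
      rw [e₁, e₂]; ring
    | smul c b _ h =>
      obtain ⟨m, y, hy, e⟩ := h
      obtain ⟨n, hn⟩ := hj c
      have hn' : (j : B) ^ n * c ∈ integralClosure A B := hn
      refine ⟨n + m, ⟨_, hn'⟩ * y, Ideal.mul_mem_left _ _ hy, ?_⟩
      push_cast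
      rw [e, smul_eq_mul]; ring
  obtain ⟨m, y, hy, e⟩ := key _ hx
  refine ⟨m, ?_⟩
  have : j ^ m * x = y := Subtype.ext (by push_cast; exact e.symm)
  rw [this]; exact hy

end Descent

section Main

variable (A B : Type u) [CommRing A] [CommRing B] [Algebra A B]
  (I : Ideal A) (e : B ⧸ Ideal.map (algebraMap A B) I) (he : IsIdempotentElem e)
  (hfin : Module.Finite (A ⧸ I) ((B ⧸ Ideal.map (algebraMap A B) I) ⧸ Ideal.span {1 - e}))

/-- the quotient map onto the first factor -/
noncomputable def psi : B →ₐ[A] ((B ⧸ Ideal.map (algebraMap A B) I) ⧸ Ideal.span {1 - e}) :=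
  (Ideal.Quotient.mkₐ A (Ideal.span {1 - e})).comp
    (Ideal.Quotient.mkₐ A (Ideal.map (algebraMap A B) I))

lemma psi_surjective : Function.Surjective (psi A B I e) :=
  (Ideal.Quotient.mkₐ_surjective A _).comp (Ideal.Quotient.mkₐ_surjective A _)

lemma mem_ker_psi {x : B} : x ∈ RingHom.ker (psi A B I e) ↔
    ∃ c, c * (1 - e) = Ideal.Quotient.mk (Ideal.map (algebraMap A B) I) x := by
  rw [RingHom.mem_ker]
  change Ideal.Quotient.mk (Ideal.span {1 - e})
    (Ideal.Quotient.mk (Ideal.map (algebraMap A B) I) x) = 0 ↔ _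
  rw [Ideal.Quotient.eq_zero_iff_mem, Ideal.mem_span_singleton']


include hfin in
lemma finite_C1 : Module.Finite A ((B ⧸ Ideal.map (algebraMap A B) I) ⧸ Ideal.span {1 - e}) :=
  Module.Finite.trans (A ⧸ I) _

/-- a lift of `e` multiplies the kernel of `psi` into `IB` -/
lemma mul_mem_of_mem_ker {x et : B}
    (het : Ideal.Quotient.mk (Ideal.map (algebraMap A B) I) et = e) (he : IsIdempotentElem e)
    (hx : x ∈ RingHom.ker (psi A B I e)) : et * x ∈ Ideal.map (algebraMap A B) I := by
  obtain ⟨c, hc⟩ := (mem_ker_psi A B I e).mp hx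
  rw [← Ideal.Quotient.eq_zero_iff_mem, map_mul, het, ← hc]
  have : e * (c * (1 - e)) = c * (e - e * e) := by ring
  rw [this, he.eq, sub_self, mul_zero]

include he hfin in
/-- Zariski's main property holds at every prime containing the kernel of `psi`. -/
lemma zmp_of_ker_le [Algebra.FiniteType A B] (q : Ideal B) [q.IsPrime]
    (hq : RingHom.ker (psi A B I e) ≤ q) :
    Algebra.ZariskisMainProperty A q := by
  haveI := finite_C1 A B I e hfin
  obtain ⟨et, het⟩ := Ideal.Quotient.mk_surjective e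
  have hIq : Ideal.map (algebraMap A B) I ≤ q := by
    intro x hx
    apply hq
    rw [mem_ker_psi]
    exact ⟨0, by rw [zero_mul, eq_comm, Ideal.Quotient.eq_zero_iff_mem]; exact hx⟩
  have hIp : I ≤ q.under A := by
    intro a ha
    rw [Ideal.mem_comap]  -- under = comap
    exact hIq (Ideal.mem_map_of_mem _ ha)
  have h1 : (1 - et) ∈ q := by
    apply hq
    rw [mem_ker_psi]
    exact ⟨1, by rw [one_mul, map_sub, map_one, het]⟩
  have hetq : et ∉ q := by
    intro h
    have : (1 : B) ∈ q := by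
      have := q.add_mem h1 h
      simpa using this
    exact (Ideal.IsPrime.ne_top ‹_›) ((Ideal.eq_top_iff_one q).mpr this)
  haveI : Algebra.WeaklyQuasiFiniteAt A q := by
    apply weaklyQuasiFiniteAt (psi A B I e) (psi_surjective A B I e) q
    intro x hx
    exact ⟨et, hetq, Ideal.map_mono hIp (mul_mem_of_mem_ker A B I e het he hx)⟩
  exact Algebra.ZariskisMainProperty.of_finiteType_of_weaklyQuasiFiniteAt q


include he hfin in
lemma GI_sup_eq_top [Algebra.FiniteType A B] :
    GI A B ⊔ (RingHom.ker (psi A B I e)).comap (algebraMap (integralClosure A B) B) = ⊤ := by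
  by_contra h
  obtain ⟨𝔪, h𝔪, hle⟩ := Ideal.exists_le_maximal _ h
  haveI := h𝔪.isPrime
  haveI := finite_C1 A B I e hfin
  haveI : Algebra.IsIntegral A ((B ⧸ Ideal.map (algebraMap A B) I) ⧸ Ideal.span {1 - e}) :=
    inferInstance
  haveI : Algebra.IsIntegral (integralClosure A B)
      ((B ⧸ Ideal.map (algebraMap A B) I) ⧸ Ideal.span {1 - e}) :=
    Algebra.IsIntegral.tower_top (R := A)
  obtain ⟨Q, -, hQ, hQc⟩ := Ideal.exists_ideal_over_prime_of_isIntegral 𝔪
    (⊥ : Ideal ((B ⧸ Ideal.map (algebraMap A B) I) ⧸ Ideal.span {1 - e})) (by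
      intro x hx
      apply hle
      apply Ideal.mem_sup_right
      rw [Ideal.mem_comap, RingHom.mem_ker]
      exact hx)
  haveI := hQ
  let q : Ideal B := Q.comap (psi A B I e).toRingHom
  haveI : q.IsPrime := Ideal.comap_isPrime _ _
  have hq : RingHom.ker (psi A B I e) ≤ q := fun x hx => by
    change (psi A B I e) x ∈ Q
    rw [RingHom.mem_ker] at hx
    rw [hx]; exact Q.zero_mem
  obtain ⟨r, hrq, hr⟩ := exists_good_of_zmp (zmp_of_ker_le A B I e he hfin q hq)
  apply hrq
  have : r ∈ 𝔪 := hle (Ideal.mem_sup_left hr)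
  rw [← hQc] at this
  exact this


/-- pure ring identity: from `P (g² - g) = 0`, `P κ g = 0`, `J + κ = 1`, `P = J ^ M` deduce that
`P g` is idempotent. -/
lemma idem_aux {Q : Type*} [CommRing Q] (J κ g : Q) (M : ℕ) (h3 : J + κ = 1)
    (h1 : J ^ M * (g * g - g) = 0) (h2 : J ^ M * (κ * g) = 0) :
    IsIdempotentElem (J ^ M * g) := by
  have hgeom : J ^ M - 1 = (∑ i ∈ Finset.range M, J ^ i) * (J - 1) := (geom_sum_mul J M).symm
  have hJ : J - 1 = -κ := by rw [← h3]; ring
  change J ^ M * g * (J ^ M * g) = J ^ M * g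
  have : J ^ M * g * (J ^ M * g) - J ^ M * g =
      J ^ M * (J ^ M * (g * g - g)) + (J ^ M - 1) * (J ^ M * g) := by ring
  rw [← sub_eq_zero, this, h1, hgeom, hJ]
  have : (∑ i ∈ Finset.range M, J ^ i) * -κ * (J ^ M * g) =
      -(∑ i ∈ Finset.range M, J ^ i) * (J ^ M * (κ * g)) := by ring
  rw [this, h2]; simp

include he hfin in
theorem main [Algebra.FiniteType A B] :
    ∃ g : integralClosure A B,
      IsIdempotentElem (Ideal.Quotient.mk (Ideal.map (algebraMap A (integralClosure A B)) I) g) ∧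
      Ideal.Quotient.mk (Ideal.map (algebraMap A B) I) (g : B) = e ∧
      Good A (g : B) := by
  have htop := GI_sup_eq_top A B I e he hfin
  have h1 : (1 : integralClosure A B) ∈
      GI A B ⊔ (RingHom.ker (psi A B I e)).comap (algebraMap (integralClosure A B) B) := by
    rw [htop]; exact Submodule.mem_top
  obtain ⟨j, hj, κ, hκ, hjκ⟩ := Submodule.mem_sup.mp h1
  have hjg : Good A (j : B) := hj
  have hκ' : (κ : B) ∈ RingHom.ker (psi A B I e) := hκ
  obtain ⟨et, het⟩ := Ideal.Quotient.mk_surjective e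
  obtain ⟨c, hc⟩ := (mem_ker_psi A B I e).mp hκ'
  set mk := Ideal.Quotient.mk (Ideal.map (algebraMap A B) I) with hmk
  -- `mk j * e = e`
  have hje : mk (j : B) * e = e := by
    have : (j : B) = 1 - (κ : B) := by
      have := congrArg (fun x : integralClosure A B => (x : B)) hjκ
      simp only [Subalgebra.coe_add, Subalgebra.coe_one] at this
      rw [← this]; ring
    rw [this, map_sub, map_one, ← hc]
    have : (1 - c * (1 - e)) * e = e - c * (e - e * e) := by ring
    rw [this, he.eq, sub_self, mul_zero, sub_zero]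
  have hje' : ∀ N : ℕ, mk (j : B) ^ N * e = e := by
    intro N
    induction N with
    | zero => simp
    | succ N ih => rw [pow_succ, mul_assoc, hje, ih]
  -- g₀
  obtain ⟨n, hn⟩ := hjg et
  have hn' : (j : B) ^ n * et ∈ integralClosure A B := hn
  set g₀ : integralClosure A B := ⟨(j : B) ^ n * et, hn'⟩ with hg₀
  have hg₀e : mk (g₀ : B) = e := by
    change mk ((j : B) ^ n * et) = e
    rw [map_mul, map_pow, het, hje']
  -- relation (a)
  have ha : ((g₀ * g₀ - g₀ : integralClosure A B) : B) ∈ Ideal.map (algebraMap A B) I := by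
    rw [← Ideal.Quotient.eq_zero_iff_mem]
    push_cast
    rw [map_sub, map_mul, hg₀e, he.eq, sub_self]
  obtain ⟨ma, hma⟩ := exists_pow_mul_mem I j hjg _ ha
  -- relation (b)
  have hb : ((κ * g₀ : integralClosure A B) : B) ∈ Ideal.map (algebraMap A B) I := by
    rw [← Ideal.Quotient.eq_zero_iff_mem]
    push_cast
    rw [map_mul, hg₀e, ← hc]
    have : c * (1 - e) * e = c * (e - e * e) := by ring
    rw [this, he.eq, sub_self, mul_zero]
  obtain ⟨mb, hmb⟩ := exists_pow_mul_mem I j hjg _ hb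
  set M := ma + mb + 1 with hM
  set mk' := Ideal.Quotient.mk (Ideal.map (algebraMap A (integralClosure A B)) I) with hmk'
  have r1 : mk' j ^ M * (mk' g₀ * mk' g₀ - mk' g₀) = 0 := by
    have : j ^ M * (g₀ * g₀ - g₀) ∈ Ideal.map (algebraMap A (integralClosure A B)) I := by
      have : j ^ M * (g₀ * g₀ - g₀) = j ^ (mb + 1) * (j ^ ma * (g₀ * g₀ - g₀)) := by
        rw [hM]; ring
      rw [this]; exact Ideal.mul_mem_left _ _ hma
    have := (Ideal.Quotient.eq_zero_iff_mem).mpr this
    simpa only [map_mul, map_pow, map_sub] using this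
  have r2 : mk' j ^ M * (mk' κ * mk' g₀) = 0 := by
    have : j ^ M * (κ * g₀) ∈ Ideal.map (algebraMap A (integralClosure A B)) I := by
      have : j ^ M * (κ * g₀) = j ^ (ma + 1) * (j ^ mb * (κ * g₀)) := by
        rw [hM]; ring
      rw [this]; exact Ideal.mul_mem_left _ _ hmb
    have := (Ideal.Quotient.eq_zero_iff_mem).mpr this
    simpa only [map_mul, map_pow] using this
  have r3 : mk' j + mk' κ = 1 := by rw [← map_add, hjκ, map_one]
  refine ⟨j ^ M * g₀, ?_, ?_, ?_⟩
  · rw [map_mul, map_pow]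
    exact idem_aux (mk' j) (mk' κ) (mk' g₀) M r3 r1 r2
  · push_cast
    rw [map_mul, map_pow, hg₀e, hje']
  · have : j ^ M * g₀ ∈ GI A B := by
      rw [hM, pow_succ, mul_assoc]
      exact Ideal.mul_mem_left _ _ (Ideal.mul_mem_right _ _ hj)
    exact this

end Main

end Groth.Agent.H78.ZMTIdem
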