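import Mathlib

/-!
# Good elements for Zariski's main theorem

Helper library of helper78.  For an `A`-algebra `B`, an element `h : B` is *good* if every element
of `B` becomes integral over `A` after multiplication by a power of `h` (so that
`B'[1/h] = B[1/h]` for the integral closure `B'`).  Good elements form an ideal of the integral
closure.
-/

namespace Groth.Agent.H78.ZMTIdem

universe u v

variable {A : Type u} {B : Type v} [CommRing A] [CommRing B] [Algebra A B]

/-- `h` is good if every element of `B` becomes integral after multiplication by a power of `h`. -/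
def Good (A : Type u) {B : Type v} [CommRing A] [CommRing B] [Algebra A B] (h : B) : Prop :=
  ∀ x : B, ∃ m : ℕ, IsIntegral A (h ^ m * x)

lemma Good.isIntegral {h : B} (hh : Good A h) : IsIntegral A h := by
  obtain ⟨n, hn⟩ := hh h
  rw [← pow_succ] at hn
  exact (IsIntegral.pow_iff (by simp)).mp hn

lemma Good.mono {h : B} (hh : Good A h) (x : B) {m : ℕ} (hm : IsIntegral A (h ^ m * x))
    {m' : ℕ} (hle : m ≤ m') : IsIntegral A (h ^ m' * x) := by
  obtain ⟨d, rfl⟩ := Nat.exists_eq_add_of_le hle
  have : h ^ (m + d) * x = h ^ d * (h ^ m * x) := by ring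
  rw [this]
  exact (hh.isIntegral.pow d).mul hm

lemma good_zero : Good A (0 : B) := fun x => ⟨1, by simpa using isIntegral_zero⟩

lemma Good.mul {h c : B} (hh : Good A h) (hc : IsIntegral A c) : Good A (c * h) := fun x => by
  obtain ⟨m, hm⟩ := hh x
  exact ⟨m, by rw [mul_pow, mul_assoc]; exact (hc.pow m).mul hm⟩

lemma Good.add {h₁ h₂ : B} (H₁ : Good A h₁) (H₂ : Good A h₂) : Good A (h₁ + h₂) := fun x => by
  obtain ⟨m₁, hm₁⟩ := H₁ x
  obtain ⟨m₂, hm₂⟩ := H₂ x
  refine ⟨m₁ + m₂, ?_⟩
  rw [add_pow, Finset.sum_mul]
  refine IsIntegral.sum _ fun i hi => ?_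
  have hc : IsIntegral A (((m₁ + m₂).choose i : ℕ) : B) := by
    rw [← map_natCast (algebraMap A B)]; exact isIntegral_algebraMap
  rcases le_or_gt m₁ i with hle | hlt
  · have : h₁ ^ i * h₂ ^ (m₁ + m₂ - i) * ((m₁ + m₂).choose i : B) * x =
        (h₂ ^ (m₁ + m₂ - i) * ((m₁ + m₂).choose i : B)) * (h₁ ^ i * x) := by ring
    rw [this]
    exact ((H₂.isIntegral.pow _).mul hc).mul (H₁.mono x hm₁ hle)
  · have hle : m₂ ≤ m₁ + m₂ - i := by omega
    have : h₁ ^ i * h₂ ^ (m₁ + m₂ - i) * ((m₁ + m₂).choose i : B) * x =
        (h₁ ^ i * ((m₁ + m₂).choose i : B)) * (h₂ ^ (m₁ + m₂ - i) * x) := by ring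
    rw [this]
    exact ((H₁.isIntegral.pow _).mul hc).mul (H₂.mono x hm₂ hle)

variable (A B) in
/-- the ideal of good elements in the integral closure -/
def GI : Ideal (integralClosure A B) where
  carrier := {h | Good A (h : B)}
  add_mem' := fun ha hb => Good.add ha hb
  zero_mem' := good_zero
  smul_mem' := fun c h hh => by
    change Good A ((c * h : integralClosure A B) : B)
    rw [MulMemClass.coe_mul]
    exact Good.mul hh c.2

lemma mem_GI {h : integralClosure A B} : h ∈ GI A B ↔ Good A (h : B) := Iff.rfl

/-- Zariski's main property at `q` gives a good element outside `q`. -/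
lemma exists_good_of_zmp {q : Ideal B} (H : Algebra.ZariskisMainProperty A q) :
    ∃ r : integralClosure A B, (r : B) ∉ q ∧ r ∈ GI A B := by
  obtain ⟨r, hrq, hr⟩ := Algebra.zariskisMainProperty_iff'.mp H
  have hg : Good A r := hr
  exact ⟨⟨r, hg.isIntegral⟩, hrq, hg⟩

/-- for a good `g` in the integral closure `B'`, `B'[1/g] → B[1/g]` is bijective -/
lemma bijective_of_good (g : integralClosure A B) (hg : Good A (g : B)) :
    Function.Bijective (algebraMap (Localization.Away g)
      (Localization (Algebra.algebraMapSubmonoid B (Submonoid.powers g)))) := by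
  constructor
  · exact localizationAlgebra_injective _ _ Subtype.val_injective
  · intro x
    obtain ⟨b, ⟨s, hs⟩, rfl⟩ := IsLocalization.exists_mk'_eq
      (Algebra.algebraMapSubmonoid B (Submonoid.powers g)) x
    obtain ⟨t, ⟨k, rfl⟩, rfl⟩ := hs
    obtain ⟨m, hm⟩ := hg b
    have hm' : (g : B) ^ m * b ∈ integralClosure A B := hm
    let y : integralClosure A B := ⟨(g : B) ^ m * b, hm'⟩
    let t : Submonoid.powers g := ⟨g ^ (m + k), ⟨m + k, rfl⟩⟩
    haveI : IsScalarTower (integralClosure A B) (Localization (Submonoid.powers g))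
        (Localization (Algebra.algebraMapSubmonoid B (Submonoid.powers g))) :=
      isScalarTower_localizationAlgebra (R := integralClosure A B) (S := B) (Submonoid.powers g)
        (Rₘ := Localization (Submonoid.powers g))
        (Sₘ := (Localization (Algebra.algebraMapSubmonoid B (Submonoid.powers g))))
    refine ⟨IsLocalization.mk' (Localization.Away g) y t, ?_⟩
    rw [IsLocalization.algebraMap_mk' (S := B)]
    rw [IsLocalization.mk'_eq_iff_eq]
    congr 1
    change (algebraMap (integralClosure A B) B g) ^ k * ((g : B) ^ m * b) =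
      (algebraMap (integralClosure A B) B (g ^ (m + k))) * b
    rw [map_pow]
    change (g : B) ^ k * ((g : B) ^ m * b) = (g : B) ^ (m + k) * b
    ring

end Groth.Agent.H78.ZMTIdem
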