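import Groth.Agent.H78.ZMTIdem.Good

/-!
# Weak quasi-finiteness at primes over a finite quotient
-/

namespace Groth.Agent.H78.ZMTIdem

universe u

variable {A B C : Type u} [CommRing A] [CommRing B] [Algebra A B]
  [CommRing C] [Algebra A C] [Module.Finite A C]

/-- If `ψ : B → C` is surjective with `C` finite over `A`, `q ⊇ ker ψ` is a prime of `B` and every
element of `ker ψ` is killed modulo `pB` (`p = q ∩ A`) by some element outside `q`,
then `B` is weakly quasi-finite over `A` at `q`. -/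
lemma weaklyQuasiFiniteAt (ψ : B →ₐ[A] C) (hψ : Function.Surjective ψ)
    (q : Ideal B) [q.IsPrime]
    (hker : ∀ x ∈ RingHom.ker ψ, ∃ t ∉ q, t * x ∈ (q.under A).map (algebraMap A B)) :
    Algebra.WeaklyQuasiFiniteAt A q := by
  rw [Algebra.weaklyQuasiFiniteAt_iff]
  set Bq := Localization.AtPrime q
  set P : Ideal Bq := (q.under A).map (algebraMap A Bq)
  let F : B →ₐ[A] Bq ⧸ P := (Ideal.Quotient.mkₐ A P).comp (IsScalarTower.toAlgHom A B Bq)
  have hF : ∀ b : B, F b = Ideal.Quotient.mk P (algebraMap B Bq b) := fun b => rfl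
  have hle : RingHom.ker ψ ≤ RingHom.ker F := by
    intro x hx
    obtain ⟨t, htq, htx⟩ := hker x hx
    rw [RingHom.mem_ker, hF, Ideal.Quotient.eq_zero_iff_mem]
    have hu : IsUnit (algebraMap B Bq t) :=
      IsLocalization.map_units (M := q.primeCompl) Bq ⟨t, htq⟩
    have h1 : algebraMap B Bq (t * x) ∈ P := by
      have : (q.under A).map (algebraMap A Bq) =
          ((q.under A).map (algebraMap A B)).map (algebraMap B Bq) := by
        rw [Ideal.map_map, ← IsScalarTower.algebraMap_eq]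
      change _ ∈ (q.under A).map (algebraMap A Bq)
      rw [this]
      exact Ideal.mem_map_of_mem _ htx
    rw [map_mul] at h1
    exact (Ideal.unit_mul_mem_iff_mem P hu).mp h1
  let f : C →ₐ[A] Bq ⧸ P := AlgHom.liftOfSurjective ψ hψ F hle
  have hf : ∀ b : B, f (ψ b) = F b := fun b => AlgHom.liftOfSurjective_apply ψ hψ F hle b
  refine Algebra.QuasiFinite.of_forall_exists_mul_mem_range f fun x => ?_
  obtain ⟨y, rfl⟩ := Ideal.Quotient.mk_surjective x
  obtain ⟨b, ⟨t, ht⟩, rfl⟩ := IsLocalization.exists_mk'_eq q.primeCompl y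
  refine ⟨ψ t, ?_, ψ b, ?_⟩
  · rw [hf, hF]
    exact (IsLocalization.map_units (M := q.primeCompl) Bq ⟨t, ht⟩).map (Ideal.Quotient.mk P)
  · change f (ψ b) = _
    rw [hf, hf, hF, hF, ← map_mul, IsLocalization.mk'_spec]

end Groth.Agent.H78.ZMTIdem
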